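import Cfsg.Prelude.Def_ChevG2

set_option autoImplicit false

/-! Bit-vector model of the 14×14 matrices over `Z/2` in which the Chevalley group of type `G₂` over the
field with two elements lives. A matrix is a list of 14 columns, a column is a natural number (bit `i` = row `i`). -/

namespace Cfsg.Agent.ChevalleyStructure.G2Two.Bits

open Cfsg.Lie

/-- Position of a coordinate index: the two coroot coordinates first, then the twelve roots. -/
def ix : chevG2.Idx → ℕ
  | Sum.inl i => i.val
  | Sum.inr r => 2 + r.val

/-- A bit as an element of `Z/2`. -/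
def b (x : Bool) : ZMod 2 := if x then 1 else 0

theorem b_xor (x y : Bool) : b (x ^^ y) = b x + b y := by
  cases x <;> cases y <;> decide

theorem b_and (x y : Bool) : b (x && y) = b x * b y := by
  cases x <;> cases y <;> decide

theorem b_false : b false = 0 := rfl

theorem b_true : b true = 1 := rfl

theorem b_injective {x y : Bool} (h : b x = b y) : x = y := by
  revert x y; decide

/-- The matrix given by a list of columns. -/
def toMat (A : List ℕ) : Matrix chevG2.Idx chevG2.Idx (ZMod 2) :=
  fun i j => b ((A.getD (ix j) 0).testBit (ix i))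

/-- The vector given by a bit string. -/
def dec (v : ℕ) : chevG2.Idx → ZMod 2 := fun i => b (v.testBit (ix i))

/-- Matrix (list of columns) applied to a vector (bit string). -/
def app : List ℕ → ℕ → ℕ
  | [], _ => 0
  | a :: as, v => ((v % 2) * a) ^^^ app as (v / 2)

theorem app_nil (v : ℕ) : app [] v = 0 := rfl

theorem app_cons (a : ℕ) (as : List ℕ) (v : ℕ) : app (a :: as) v = ((v % 2) * a) ^^^ app as (v / 2) := rfl

theorem app_zero (A : List ℕ) : app A 0 = 0 := by
  induction A with
  | nil => rfl
  | cons a as ih => rw [app_cons]; simp [ih]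

theorem app_testBit (A : List ℕ) (v i : ℕ) :
    b ((app A v).testBit i) = ∑ k ∈ Finset.range A.length, b ((A.getD k 0).testBit i) * b (v.testBit k) := by
  induction A generalizing v with
  | nil => simp [app_nil, b_false]
  | cons a as ih =>
    rw [app_cons, Nat.testBit_xor, b_xor, ih, List.length_cons, Finset.sum_range_succ', add_comm]
    congr 1
    · refine Finset.sum_congr rfl fun k _ => ?_
      rw [List.getD_cons_succ, Nat.testBit_succ]
    · rw [List.getD_cons_zero, Nat.testBit_zero]
      rcases Nat.mod_two_eq_zero_or_one v with h | h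
      · simp [h, b_false]
      · simp [h, b_true]

/-- Product of two matrices given by columns. -/
def mulB (A B : List ℕ) : List ℕ := B.map (app A)

theorem sum_idx (F : ℕ → ZMod 2) : (∑ k : chevG2.Idx, F (ix k)) = ∑ k ∈ Finset.range 14, F k := by
  rw [Fintype.sum_sum_type]
  change (∑ x : Fin 2, F x.val) + (∑ x : Fin 12, F (2 + x.val)) = _
  rw [Fin.sum_univ_eq_sum_range (fun k => F k) 2, Fin.sum_univ_eq_sum_range (fun k => F (2 + k)) 12]
  rw [show (14 : ℕ) = 2 + 12 from rfl, Finset.sum_range_add]

theorem toMat_mulVec (A : List ℕ) (hA : A.length = 14) (v : ℕ) :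
    (toMat A).mulVec (dec v) = dec (app A v) := by
  funext i
  change (∑ k : chevG2.Idx, toMat A i k * dec v k) = b ((app A v).testBit (ix i))
  rw [app_testBit, hA, ← sum_idx]
  rfl

theorem toMat_mul (A B : List ℕ) (hA : A.length = 14) : toMat A * toMat B = toMat (mulB A B) := by
  ext i j
  have h := congrFun (toMat_mulVec A hA (B.getD (ix j) 0)) i
  have h2 : (mulB A B).getD (ix j) 0 = app A (B.getD (ix j) 0) := by
    unfold mulB
    by_cases hj : ix j < B.length
    · simp [List.getD, hj]
    · simp [List.getD, hj, app_zero]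
  change (∑ k : chevG2.Idx, toMat A i k * toMat B k j) = b (((mulB A B).getD (ix j) 0).testBit (ix i))
  rw [h2]
  exact h

theorem mulB_length (A B : List ℕ) : (mulB A B).length = B.length := by
  unfold mulB; exact List.length_map _

/-- The identity matrix. -/
def oneB : List ℕ := [1, 2, 4, 8, 16, 32, 64, 128, 256, 512, 1024, 2048, 4096, 8192]

theorem toMat_oneB : toMat oneB = 1 := by decide +kernel

/-- `Rep g A`: the list `A` of 14 columns represents the invertible matrix `g`. -/
def Rep (g : GL chevG2.Idx (ZMod 2)) (A : List ℕ) : Prop :=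
  A.length = 14 ∧ (g : Matrix chevG2.Idx chevG2.Idx (ZMod 2)) = toMat A

theorem Rep.one : Rep 1 oneB := ⟨rfl, toMat_oneB.symm⟩

theorem Rep.mul {g h : GL chevG2.Idx (ZMod 2)} {A B : List ℕ} (hg : Rep g A) (hh : Rep h B) :
    Rep (g * h) (mulB A B) :=
  ⟨by rw [mulB_length, hh.1], by rw [Units.val_mul, hg.2, hh.2, toMat_mul A B hg.1]⟩

theorem Rep.eq {g h : GL chevG2.Idx (ZMod 2)} {A : List ℕ} (hg : Rep g A) (hh : Rep h A) : g = h :=
  Units.ext (hg.2.trans hh.2.symm)

/-- Product of a word of columns lists. -/
def evB {k : ℕ} (F : Fin k → List ℕ) (w : List (Fin k)) : List ℕ := w.foldr (fun i acc => mulB (F i) acc) oneB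

theorem Rep.word {k : ℕ} {f : Fin k → GL chevG2.Idx (ZMod 2)} {F : Fin k → List ℕ} (h : ∀ i, Rep (f i) (F i))
    (w : List (Fin k)) : Rep (w.map f).prod (evB F w) := by
  induction w with
  | nil => exact Rep.one
  | cons i w ih =>
    rw [List.map_cons, List.prod_cons]
    exact (h i).mul ih

end Cfsg.Agent.ChevalleyStructure.G2Two.Bits
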