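import Cfsg.Agent.ChevalleyStructure.G2Two.GTables

set_option autoImplicit false

/-! The group `G₂(2)` and its derived subgroup: explicit generators. -/

namespace Cfsg.Agent.ChevalleyStructure.G2Two.GSide

open Cfsg.Lie Cfsg.Agent.ChevalleyStructure.G2Two.Bits Cfsg.Agent.ChevalleyStructure.G2Two.GTables
open scoped commutatorElement

abbrev GG : Type := GL chevG2.Idx (ZMod 2)

theorem toMat_XB_sq (r : Fin 12) : toMat (XB r) * toMat (XB r) = 1 := by
  rw [toMat_mul _ _ (XB_length r), XB_sq, toMat_oneB]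

/-- The root elements `x_r(1)` as invertible matrices. -/
def X (r : Fin 12) : GG := ⟨toMat (XB r), toMat (XB r), toMat_XB_sq r, toMat_XB_sq r⟩

theorem X_rep (r : Fin 12) : Rep (X r) (XB r) := ⟨XB_length r, rfl⟩

theorem X_mul_self (r : Fin 12) : X r * X r = 1 := Units.ext (toMat_XB_sq r)

theorem X_inv (r : Fin 12) : (X r)⁻¹ = X r := inv_eq_of_mul_eq_one_right (X_mul_self r)

theorem zmod_two_cases : ∀ t : ZMod 2, t = 0 ∨ t = 1 := by decide

theorem group_eq : chevG2.group (ZMod 2) = Subgroup.closure (Set.range X) := by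
  apply le_antisymm
  · rw [ChevalleyDatum.group, Subgroup.closure_le]
    rintro g ⟨r, t, hg⟩
    rcases zmod_two_cases t with rfl | rfl
    · have : g = 1 := Units.ext (hg.trans (xMat_zero r))
      rw [this]; exact one_mem _
    · have : g = X r := Units.ext (hg.trans (xMat_one r))
      rw [this]; exact Subgroup.subset_closure ⟨r, rfl⟩
  · rw [Subgroup.closure_le]
    rintro g ⟨r, rfl⟩
    exact Subgroup.subset_closure ⟨r, 1, (xMat_one r).symm⟩

/-- First generator of the derived subgroup: a long root element. -/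
def H1 : GG := X 6

/-- Second generator of the derived subgroup (order 8). -/
def H2 : GG := X 7 * (X 3 * X 6) * (X 7)⁻¹ * (X 3 * X 6)⁻¹

def H2i : GG := X 3 * (X 6 * (X 7 * (X 6 * (X 3 * X 7))))

theorem H2_eq : H2 = X 7 * (X 3 * (X 6 * (X 7 * (X 6 * X 3)))) := by
  simp only [H2, mul_inv_rev, X_inv, mul_assoc]

theorem H1_rep : Rep H1 (XB 6) := X_rep 6

theorem H2_rep : Rep H2 H2Blit := by
  rw [← H2B_eq, H2_eq]
  exact (X_rep 7).mul ((X_rep 3).mul ((X_rep 6).mul ((X_rep 7).mul ((X_rep 6).mul (X_rep 3)))))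

theorem H2i_rep : Rep H2i H2iBlit := by
  rw [← H2iB_eq]
  exact (X_rep 3).mul ((X_rep 6).mul ((X_rep 7).mul ((X_rep 6).mul ((X_rep 3).mul (X_rep 7)))))

theorem H2_mul_H2i : H2 * H2i = 1 := by
  have h := H2_rep.mul H2i_rep
  rw [H2Blit_mul] at h
  exact h.eq Rep.one

theorem H2_inv : H2⁻¹ = H2i := inv_eq_of_mul_eq_one_right H2_mul_H2i

/-- The generators (with inverses) of the derived subgroup. -/
def f : Fin 3 → GG
  | 0 => H1
  | 1 => H2
  | 2 => H2i

theorem f_rep (i : Fin 3) : Rep (f i) (F i) := by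
  match i with
  | 0 => exact H1_rep
  | 1 => exact H2_rep
  | 2 => exact H2i_rep

/-- The derived subgroup. -/
def HH : Subgroup GG := Subgroup.closure {H1, H2}

theorem H1_mem : H1 ∈ HH := Subgroup.subset_closure (Set.mem_insert _ _)

theorem H2_mem : H2 ∈ HH := Subgroup.subset_closure (Set.mem_insert_of_mem _ rfl)

theorem f_mem (i : Fin 3) : f i ∈ HH := by
  match i with
  | 0 => exact H1_mem
  | 1 => exact H2_mem
  | 2 => rw [show f 2 = H2i from rfl, ← H2_inv]; exact inv_mem H2_mem

theorem word_mem (w : List (Fin 3)) : (w.map f).prod ∈ HH := by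
  refine Subgroup.list_prod_mem _ ?_
  intro x hx
  obtain ⟨i, _, rfl⟩ := List.mem_map.1 hx
  exact f_mem i

/-- A short root element, representing the non-trivial coset of the derived subgroup. -/
def s : GG := X 9

theorem s_rep : Rep s (XB 9) := X_rep 9

theorem s_mul_self : s * s = 1 := X_mul_self 9

theorem s_inv : s⁻¹ = s := X_inv 9

theorem s_cancel (x : GG) : s * (s * x) = x := by
  rw [← mul_assoc, s_mul_self, one_mul]

theorem X_cases (r : Fin 12) : X r ∈ HH ∨ s * X r ∈ HH := by
  have h := wX_check r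
  have hw := Rep.word f_rep (wX r)
  cases hr : isShort r with
  | false =>
    rw [hr, cond_false] at h
    left
    rw [h] at hw
    rw [(X_rep r).eq hw]
    exact word_mem _
  | true =>
    rw [hr, cond_true] at h
    right
    rw [h] at hw
    rw [(s_rep.mul (X_rep r)).eq hw]
    exact word_mem _

theorem s_conj_H1 : s * H1 * s⁻¹ = H1 := by
  rw [s_inv]
  have h1 := (s_rep.mul H1_rep).mul s_rep
  rw [conj_check1] at h1
  exact h1.eq H1_rep

theorem s_conj_H2 : s * H2 * s⁻¹ = H2⁻¹ := by
  rw [s_inv, H2_inv]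
  have h1 := (s_rep.mul H2_rep).mul s_rep
  rw [conj_check2] at h1
  exact h1.eq H2i_rep

theorem s_conj_mem {h : GG} (hh : h ∈ HH) : s * h * s⁻¹ ∈ HH := by
  rw [HH] at hh
  induction hh using Subgroup.closure_induction with
  | mem x hx =>
    rcases hx with rfl | rfl
    · rw [s_conj_H1]; exact H1_mem
    · rw [s_conj_H2]; exact inv_mem H2_mem
  | one => rw [mul_one, mul_inv_cancel]; exact one_mem _
  | mul a c _ _ ha hc =>
    have : s * (a * c) * s⁻¹ = (s * a * s⁻¹) * (s * c * s⁻¹) := by
      simp only [mul_assoc, inv_mul_cancel_left]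
    rw [this]; exact mul_mem ha hc
  | inv a _ ha =>
    have : s * a⁻¹ * s⁻¹ = (s * a * s⁻¹)⁻¹ := by
      simp only [mul_inv_rev, inv_inv, mul_assoc]
    rw [this]; exact inv_mem ha

theorem s_conj_mem' {h : GG} (hh : h ∈ HH) : s * (h * s) ∈ HH := by
  have := s_conj_mem hh
  rwa [s_inv, mul_assoc] at this

theorem cases_of_mem {g : GG} (hg : g ∈ Subgroup.closure (Set.range X)) : g ∈ HH ∨ s * g ∈ HH := by
  induction hg using Subgroup.closure_induction with
  | mem x hx => obtain ⟨r, rfl⟩ := hx; exact X_cases r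
  | one => left; exact one_mem _
  | mul a c _ _ ha hc =>
    rcases ha with ha | ha <;> rcases hc with hc | hc
    · left; exact mul_mem ha hc
    · right
      have : s * (a * c) = (s * (a * s)) * (s * c) := by
        simp only [mul_assoc, s_cancel]
      rw [this]; exact mul_mem (s_conj_mem' ha) hc
    · right
      rw [← mul_assoc]; exact mul_mem ha hc
    · left
      have : a * c = (s * ((s * a) * s)) * (s * c) := by
        simp only [mul_assoc, s_cancel]
      rw [this]; exact mul_mem (s_conj_mem' ha) hc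
  | inv a _ ha =>
    rcases ha with ha | ha
    · left; exact inv_mem ha
    · right
      have : s * a⁻¹ = s * ((s * a)⁻¹ * s) := by
        simp only [mul_inv_rev, s_inv, mul_assoc, s_mul_self, mul_one]
      rw [this]; exact s_conj_mem' (inv_mem ha)

theorem comm_mem {a c : GG} (ha : a ∈ Subgroup.closure (Set.range X)) (hc : c ∈ Subgroup.closure (Set.range X)) :
    a * c * a⁻¹ * c⁻¹ ∈ HH := by
  rcases cases_of_mem ha with ha | ha <;> rcases cases_of_mem hc with hc | hc
  · exact mul_mem (mul_mem (mul_mem ha hc) (inv_mem ha)) (inv_mem hc)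
  · have : a * c * a⁻¹ * c⁻¹ = a * (s * (((s * c) * a⁻¹ * (s * c)⁻¹) * s)) := by
      simp only [mul_inv_rev, s_inv, mul_assoc, s_mul_self, s_cancel, mul_one]
    rw [this]
    exact mul_mem ha (s_conj_mem' (mul_mem (mul_mem hc (inv_mem ha)) (inv_mem hc)))
  · have : a * c * a⁻¹ * c⁻¹ = (s * (((s * a) * c * (s * a)⁻¹) * s)) * c⁻¹ := by
      simp only [mul_inv_rev, s_inv, mul_assoc, s_mul_self, s_cancel, mul_one]
    rw [this]
    exact mul_mem (s_conj_mem' (mul_mem (mul_mem ha hc) (inv_mem ha))) (inv_mem hc)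
  · have : a * c * a⁻¹ * c⁻¹ =
        (s * ((s * a) * s)) * ((s * c) * (s * a)⁻¹ * (s * ((s * c)⁻¹ * s))) := by
      simp only [mul_inv_rev, s_inv, mul_assoc, s_mul_self, s_cancel, mul_one]
    rw [this]
    exact mul_mem (s_conj_mem' ha) (mul_mem (mul_mem hc (inv_mem ha)) (s_conj_mem' (inv_mem hc)))

theorem H1_eq_comm : H1 = X 11 * X 1 * (X 11)⁻¹ * (X 1)⁻¹ := by
  rw [X_inv, X_inv]
  have h := (((X_rep 11).mul (X_rep 1)).mul (X_rep 11)).mul (X_rep 1)
  rw [comm_check] at h
  exact H1_rep.eq h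

theorem X_mem (r : Fin 12) : X r ∈ chevG2.group (ZMod 2) := by
  rw [group_eq]; exact Subgroup.subset_closure ⟨r, rfl⟩

theorem commutator_eq : ⁅chevG2.group (ZMod 2), chevG2.group (ZMod 2)⁆ = HH := by
  apply le_antisymm
  · rw [Subgroup.commutator_le]
    intro a ha c hc
    rw [group_eq] at ha hc
    rw [commutatorElement_def]
    exact comm_mem ha hc
  · rw [HH, Subgroup.closure_le]
    rintro x (rfl | rfl)
    · have h := Subgroup.commutator_mem_commutator (X_mem 11) (X_mem 1)
      rw [commutatorElement_def, ← H1_eq_comm] at h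
      exact h
    · have h := Subgroup.commutator_mem_commutator (X_mem 7) (mul_mem (X_mem 3) (X_mem 6))
      rw [commutatorElement_def, ← H2] at h
      exact h

end Cfsg.Agent.ChevalleyStructure.G2Two.GSide
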