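import Cfsg.Agent.ChevalleyStructure.G2Two.Bits

set_option autoImplicit false

/-! The group `G₂(2)` : explicit matrices of the root elements (as bit tables) and explicit words. -/

namespace Cfsg.Agent.ChevalleyStructure.G2Two.GTables

open Cfsg.Lie Cfsg.Agent.ChevalleyStructure.G2Two.Bits

/-- Columns of the root elements `x_r(1)`. -/
def XB : Fin 12 → List ℕ
  | 0 => [1, 6, 4, 8, 16, 32, 64, 128, 264, 512, 1040, 2080, 4224, 8197]
  | 1 => [9, 10, 4, 8, 16, 32, 64, 132, 256, 528, 1024, 2112, 4107, 8448]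
  | 2 => [17, 2, 4, 8, 16, 36, 72, 128, 256, 516, 1032, 2066, 4644, 9288]
  | 3 => [33, 34, 4, 8, 20, 32, 68, 128, 340, 640, 1059, 2176, 4096, 10880]
  | 4 => [1, 66, 4, 8, 24, 40, 64, 184, 256, 577, 1280, 2304, 7424, 8192]
  | 5 => [129, 2, 4, 12, 16, 32, 96, 128, 386, 512, 1536, 2048, 4096, 12288]
  | 6 => [257, 2, 12, 8, 16, 96, 64, 386, 256, 1536, 1024, 2048, 12288, 8192]
  | 7 => [1, 514, 4, 184, 144, 160, 577, 128, 7424, 512, 5120, 6144, 4096, 8192]
  | 8 => [1025, 1026, 340, 8, 272, 1059, 320, 10880, 256, 8704, 1024, 10240, 4096, 8192]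
  | 9 => [2049, 2, 4644, 9288, 2066, 4128, 8256, 128, 256, 4608, 9216, 2048, 4096, 8192]
  | 10 => [4097, 4098, 132, 4107, 528, 32, 2112, 128, 8448, 512, 1024, 2048, 4096, 8192]
  | 11 => [1, 8194, 8197, 264, 1040, 2080, 64, 4224, 256, 512, 1024, 2048, 4096, 8192]

theorem xMat_one (r : Fin 12) : chevG2.xMat (ZMod 2) r 1 = toMat (XB r) := by
  revert r; decide +kernel

theorem xMat_zero (r : Fin 12) : chevG2.xMat (ZMod 2) r 0 = 1 := by
  revert r; decide +kernel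

theorem XB_length (r : Fin 12) : (XB r).length = 14 := by
  revert r; decide +kernel

theorem XB_sq (r : Fin 12) : mulB (XB r) (XB r) = oneB := by
  revert r; decide +kernel

def H2B : List ℕ := mulB (XB 7) (mulB (XB 3) (mulB (XB 6) (mulB (XB 7) (mulB (XB 6) (XB 3)))))

def H2iB : List ℕ := mulB (XB 3) (mulB (XB 6) (mulB (XB 7) (mulB (XB 6) (mulB (XB 3) (XB 7)))))

def H2Blit : List ℕ := [12802, 129, 8066, 7998, 737, 5632, 5776, 12288, 12421, 6144, 6304, 512, 4096, 4224]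

def H2iBlit : List ℕ := [12290, 2177, 386, 14318, 12384, 13824, 15890, 12288, 10917, 2048, 6176, 4608, 4096, 4224]

theorem H2B_eq : H2B = H2Blit := by decide +kernel

theorem H2iB_eq : H2iB = H2iBlit := by decide +kernel

theorem H2Blit_mul : mulB H2Blit H2iBlit = oneB := by decide +kernel

def F : Fin 3 → List ℕ
  | 0 => XB 6
  | 1 => H2Blit
  | 2 => H2iBlit

/-- Words for `x_r(1)` (long `r`), `x_9(1) x_r(1)` (short `r`). -/
def wX : Fin 12 → List (Fin 3)
  | 0 => [1, 0, 1, 0, 1, 1, 1, 1, 0, 2, 0, 2]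
  | 1 => [2, 0, 1, 0, 1, 1, 0, 2, 0, 2, 0, 1, 1, 1]
  | 2 => [1, 0, 2, 0, 1]
  | 3 => [2, 0, 1, 1, 0, 2]
  | 4 => [2, 0, 1, 1, 1, 0, 1, 0, 1, 1, 1, 0, 2]
  | 5 => [1, 0, 1, 1, 1, 1, 0, 2]
  | 6 => [0]
  | 7 => [2, 2]
  | 8 => [0, 1, 1, 0, 1, 1]
  | 9 => []
  | 10 => [1, 1, 1, 1]
  | 11 => [0, 1, 1, 1, 1, 0, 1, 1, 1, 1]

/-- `r` is a short root. -/
def isShort : Fin 12 → Bool
  | 2 => true
  | 3 => true
  | 4 => true
  | 7 => true
  | 8 => true
  | 9 => true
  | _ => false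

theorem wX_check (r : Fin 12) :
    evB F (wX r) = bif isShort r then mulB (XB 9) (XB r) else XB r := by
  revert r; decide +kernel

theorem conj_check1 : mulB (mulB (XB 9) (XB 6)) (XB 9) = XB 6 := by decide +kernel

theorem conj_check2 : mulB (mulB (XB 9) H2Blit) (XB 9) = H2iBlit := by decide +kernel

theorem comm_check : mulB (mulB (mulB (XB 11) (XB 1)) (XB 11)) (XB 1) = XB 6 := by decide +kernel

end Cfsg.Agent.ChevalleyStructure.G2Two.GTables
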