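import Cfsg.Agent.ChevalleyStructure.G2Two.GSide
import Cfsg.Agent.ChevalleyStructure.G2Two.USide

set_option autoImplicit false

/-! The derived subgroup of `G₂(2)` and `SU₃(3)` act in the same way on 63 objects
(long root vectors resp. reflections); this gives the isomorphism. -/

namespace Cfsg.Agent.ChevalleyStructure.G2Two.Match

open Cfsg Cfsg.Lie Cfsg.Agent.ChevalleyStructure.NineField
open Cfsg.Agent.ChevalleyStructure.G2Two.Bits Cfsg.Agent.ChevalleyStructure.G2Two.GTables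
open Cfsg.Agent.ChevalleyStructure.G2Two.GSide Cfsg.Agent.ChevalleyStructure.G2Two.USide

/-- The 63 long root vectors. -/
def eB : List ℕ := [4, 12, 340, 4644, 132, 8197, 8, 188, 348, 13932, 4239, 8461, 256, 502, 8149, 15222, 11220, 9557, 4772, 4671, 4096, 8045, 14199, 14885, 128, 398, 12421, 8192, 9309, 10917, 184, 9288, 4107, 264, 12015, 11998, 15805, 506, 7998, 15327, 14073, 12288, 15435, 4224, 4795, 7671, 8448, 11257, 12555, 386, 7424, 8066, 15616, 12674, 10880, 12162, 9544, 14318, 7499, 14976, 12219, 15610, 7608]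

def s1 : List ℕ := [1, 0, 8, 9, 25, 11, 6, 13, 2, 3, 26, 5, 12, 7, 39, 38, 35, 28, 57, 22, 41, 23, 19, 21, 49, 4, 10, 27, 17, 34, 37, 31, 48, 33, 29, 16, 45, 30, 15, 14, 44, 20, 58, 53, 40, 36, 46, 60, 32, 24, 52, 59, 50, 43, 55, 54, 56, 18, 42, 51, 47, 62, 61]

def s2 : List ℕ := [51, 7, 15, 49, 55, 52, 38, 28, 31, 1, 19, 44, 26, 45, 16, 22, 13, 2, 53, 35, 20, 32, 14, 46, 41, 30, 50, 43, 34, 12, 39, 25, 36, 60, 10, 9, 61, 58, 40, 42, 21, 24, 11, 27, 8, 17, 5, 56, 62, 0, 23, 18, 29, 4, 59, 3, 48, 6, 33, 54, 47, 57, 37]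

def s3 : List ℕ := [49, 9, 17, 55, 53, 46, 57, 1, 44, 35, 34, 42, 29, 16, 22, 2, 14, 45, 51, 10, 20, 40, 15, 50, 41, 31, 12, 43, 7, 52, 25, 8, 21, 58, 28, 19, 32, 62, 6, 30, 38, 24, 39, 27, 11, 13, 23, 60, 56, 3, 26, 0, 5, 18, 59, 4, 47, 61, 37, 54, 33, 36, 48]

/-- Codes of unit vectors for the 63 reflections. -/
def tC : List ℕ := [384, 128, 345, 344, 354, 381, 104, 150, 156, 155, 145, 127, 360, 353, 336, 379, 339, 348, 334, 129, 81, 154, 380, 343, 44, 146, 357, 1, 159, 335, 142, 107, 97, 106, 118, 120, 147, 116, 132, 123, 143, 9, 94, 40, 113, 352, 396, 139, 95, 328, 369, 329, 387, 332, 41, 331, 103, 119, 98, 43, 115, 112, 140]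

/-- Codes of the 63 reflections as matrices. -/
def tM : List ℕ := [21577404, 154891668, 28423569, 26832684, 42953304, 23701116, 146348604, 163630119, 149633211, 150167028, 166288368, 156483300, 14526060, 41355777, 38226423, 23169009, 36099777, 26298363, 37698024, 154359345, 129179535, 151760100, 22105083, 27893676, 258284754, 164690868, 40825164, 258319695, 149104785, 36632604, 137787543, 145817964, 161937864, 147410316, 171011568, 168886119, 164159985, 140914683, 153826491, 168351825, 136192257, 258300015, 162469944, 258282540, 141448257, 42418263, 29052114, 138316689, 160873164, 1633932, 4901073, 570969, 9624993, 3228498, 258281073, 1102329, 147940956, 169415508, 160341084, 258281793, 142508529, 143042103, 136721403]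

def spanT : Fin 14 → List ℕ
  | 0 => [0, 2, 3, 7, 13, 19]
  | 1 => [1, 5, 9, 11, 13, 14, 15, 19]
  | 2 => [0]
  | 3 => [0, 1]
  | 4 => [2, 5, 7, 9, 11, 14, 15, 19]
  | 5 => [0, 1, 2, 4, 5, 9, 11, 14, 15, 19]
  | 6 => [1, 7, 9, 14, 15, 19]
  | 7 => [0, 4]
  | 8 => [0, 1, 5, 11]
  | 9 => [1, 7, 10, 19]
  | 10 => [0, 2, 5, 13, 14, 15]
  | 11 => [0, 1, 7, 9, 11, 14]
  | 12 => [2, 3, 4, 5, 7, 9, 10, 11, 14, 15]
  | 13 => [2, 3, 5, 7, 13, 19]

def fin63 (n : ℕ) : Fin 63 := Fin.ofNat 63 n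

def p1 (i : Fin 63) : Fin 63 := fin63 (s1.getD i.val 0)
def p2 (i : Fin 63) : Fin 63 := fin63 (s2.getD i.val 0)
def p3 (i : Fin 63) : Fin 63 := fin63 (s3.getD i.val 0)

theorem p1_p1 : ∀ i, p1 (p1 i) = i := by decide +kernel
theorem p2_p3 : ∀ i, p2 (p3 i) = i := by decide +kernel
theorem p3_p2 : ∀ i, p3 (p2 i) = i := by decide +kernel

def π1 : Equiv.Perm (Fin 63) := ⟨p1, p1, p1_p1, p1_p1⟩
def π2 : Equiv.Perm (Fin 63) := ⟨p2, p3, p3_p2, p2_p3⟩

def ev (i : Fin 63) : ℕ := eB.getD i.val 0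

theorem app_check1 : ∀ i, app (XB 6) (ev i) = ev (p1 i) := by decide +kernel
theorem app_check2 : ∀ i, app H2Blit (ev i) = ev (p2 i) := by decide +kernel

/-- The vectors as functions. -/
def e (i : Fin 63) : chevG2.Idx → ZMod 2 := dec (ev i)

theorem H1_e (i : Fin 63) : H1.val.mulVec (e i) = e (π1 i) := by
  rw [H1_rep.2, e, toMat_mulVec _ (XB_length 6), app_check1]; rfl

theorem H2_e (i : Fin 63) : H2.val.mulVec (e i) = e (π2 i) := by
  rw [H2_rep.2, e, toMat_mulVec _ rfl, app_check2]; rfl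

/-- Re-encoding of a vector. -/
def enc (v : chevG2.Idx → ZMod 2) : ℕ :=
  (v (Sum.inl ⟨0, by decide⟩)).val + 2 * (v (Sum.inl ⟨1, by decide⟩)).val +
  4 * (v (Sum.inr ⟨0, by decide⟩)).val + 8 * (v (Sum.inr ⟨1, by decide⟩)).val +
  16 * (v (Sum.inr ⟨2, by decide⟩)).val + 32 * (v (Sum.inr ⟨3, by decide⟩)).val +
  64 * (v (Sum.inr ⟨4, by decide⟩)).val + 128 * (v (Sum.inr ⟨5, by decide⟩)).val +
  256 * (v (Sum.inr ⟨6, by decide⟩)).val + 512 * (v (Sum.inr ⟨7, by decide⟩)).val +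
  1024 * (v (Sum.inr ⟨8, by decide⟩)).val + 2048 * (v (Sum.inr ⟨9, by decide⟩)).val +
  4096 * (v (Sum.inr ⟨10, by decide⟩)).val + 8192 * (v (Sum.inr ⟨11, by decide⟩)).val

theorem enc_e : ∀ i : Fin 63, eB.idxOf (enc (e i)) = i.val := by decide +kernel

theorem e_injective : Function.Injective e := by
  intro i j h
  apply Fin.ext
  rw [← enc_e i, ← enc_e j, h]

/-- xor of a list of bit vectors -/
def xorL (l : List ℕ) : ℕ := l.foldr (fun i acc => (eB.getD i 0) ^^^ acc) 0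

theorem span_check : ∀ k : Fin 14, xorL (spanT k) = 2 ^ k.val ∧ (∀ i ∈ spanT k, i < 63) := by decide +kernel

theorem dec_xor (v w : ℕ) : dec (v ^^^ w) = dec v + dec w := by
  funext i
  change b ((v ^^^ w).testBit (ix i)) = b (v.testBit (ix i)) + b (w.testBit (ix i))
  rw [Nat.testBit_xor, b_xor]

theorem dec_zero : dec 0 = 0 := by
  funext i
  change b ((0 : ℕ).testBit (ix i)) = 0
  rw [Nat.zero_testBit]; rfl

theorem fix_xorL {M : Matrix chevG2.Idx chevG2.Idx (ZMod 2)} (h : ∀ i : Fin 63, M.mulVec (e i) = e i)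
    (l : List ℕ) (hl : ∀ i ∈ l, i < 63) : M.mulVec (dec (xorL l)) = dec (xorL l) := by
  induction l with
  | nil =>
    change M.mulVec (dec 0) = dec 0
    rw [dec_zero, Matrix.mulVec_zero]
  | cons a l ih =>
    change M.mulVec (dec (eB.getD a 0 ^^^ xorL l)) = dec (eB.getD a 0 ^^^ xorL l)
    rw [dec_xor, Matrix.mulVec_add, ih fun i hi => hl i (List.mem_cons_of_mem _ hi)]
    have := h ⟨a, hl a List.mem_cons_self⟩
    change M.mulVec (dec (eB.getD a 0)) = dec (eB.getD a 0) at this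
    rw [this]

theorem ix_lt : ∀ k : chevG2.Idx, ix k < 14 := by decide +kernel

theorem basis_check : ∀ k i : chevG2.Idx, (2 ^ ix k).testBit (ix i) = decide (i = k) := by decide +kernel

theorem eq_one_of_fix_e {g : GG} (h : ∀ i : Fin 63, g.val.mulVec (e i) = e i) : g = 1 := by
  apply Units.ext
  apply Matrix.ext
  intro i k
  have hs := span_check ⟨ix k, ix_lt k⟩
  have h1 := fix_xorL h (spanT ⟨ix k, ix_lt k⟩) hs.2
  rw [hs.1] at h1
  have hd : dec (2 ^ ix k) = Pi.single k (1 : ZMod 2) := by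
    funext j
    change b ((2 ^ ix k).testBit (ix j)) = _
    rw [basis_check]
    by_cases hjk : j = k
    · subst hjk; rw [Pi.single_eq_same]; simp [b]
    · rw [Pi.single_eq_of_ne hjk]; simp [b, hjk]
  change g.val.mulVec (dec (2 ^ ix k)) = dec (2 ^ ix k) at h1
  rw [hd, Matrix.mulVec_single_one] at h1
  have := congrFun h1 i
  change g.val i k = (Pi.single k (1 : ZMod 2) : chevG2.Idx → ZMod 2) i at this
  rw [this, Units.val_one, Matrix.one_apply, Pi.single_apply]

/-! ### The reflections -/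

def dec9 (n : ℕ) : F9 := ⟨Fin.ofNat 3 (n / 3), Fin.ofNat 3 n⟩

def tv (n : ℕ) : F9 × F9 × F9 := (dec9 (n / 81), dec9 (n / 9 % 9), dec9 (n % 9))

def refl (v : F9 × F9 × F9) : Mat3 := Matrix.of fun i j =>
  (if i = j then ⟨2, 0⟩ else 0) + ⟨2, 0⟩ * (vec v i * vec v j ^ 3)

def T (i : Fin 63) : Mat3 := refl (tv (tC.getD i.val 0))

theorem k1_T : ∀ i : Fin 63, m1 * T i = T (p1 i) * m1 := by decide +kernel
theorem k2_T : ∀ i : Fin 63, m2 * T i = T (p2 i) * m2 := by decide +kernel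

def codeM (M : Mat3) : ℕ :=
  (((((((code (M 0 0) * 9 + code (M 0 1)) * 9 + code (M 0 2)) * 9 + code (M 1 0)) * 9 + code (M 1 1)) * 9 +
    code (M 1 2)) * 9 + code (M 2 0)) * 9 + code (M 2 1)) * 9 + code (M 2 2)

theorem codeM_T : ∀ i : Fin 63, tM.idxOf (codeM (T i)) = i.val := by decide +kernel

theorem T_injective : Function.Injective T := by
  intro i j h
  apply Fin.ext
  rw [← codeM_T i, ← codeM_T j, h]

/-! Reflections with trivial common centralizer. -/

def T20m : Mat3 := !![1, 0, 0; 0, ⟨2, 0⟩, 0; 0, 0, ⟨2, 0⟩]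
def T41m : Mat3 := !![⟨2, 0⟩, 0, 0; 0, 1, 0; 0, 0, ⟨2, 0⟩]
def T0m : Mat3 := !![0, ⟨1, 1⟩, ⟨1, 1⟩; ⟨1, 2⟩, 1, ⟨2, 0⟩; ⟨1, 2⟩, ⟨2, 0⟩, 1]

theorem T20_eq : T 20 = T20m := by decide +kernel
theorem T41_eq : T 41 = T41m := by decide +kernel
theorem T0_eq : T 0 = T0m := by decide +kernel

theorem mul3 (M N : Mat3) (i j : Fin 3) :
    (M * N) i j = M i 0 * N 0 j + M i 1 * N 1 j + M i 2 * N 2 j :=
  Fin.sum_univ_three (fun k => M i k * N k j)

theorem aux1 : ∀ x : F9, x * ⟨2, 0⟩ = x → x = 0 := by decide +kernel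
theorem aux2 : ∀ x y : F9, x * ⟨1, 1⟩ = ⟨1, 1⟩ * y → y = x := by decide +kernel
theorem aux3 : ∀ x : F9, x * x * x = 1 → x = 1 := by decide +kernel

/-- An element of `SL₃` commuting with three of the reflections is trivial. -/
theorem eq_one_of_commute {g : SL3} (h20 : g.val * T 20 = T 20 * g.val) (h41 : g.val * T 41 = T 41 * g.val)
    (h0 : g.val * T 0 = T 0 * g.val) : g = 1 := by
  rw [T20_eq] at h20
  rw [T41_eq] at h41
  rw [T0_eq] at h0
  have a01 : g.val 0 1 = 0 := by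
    have h := congrFun (congrFun h20 0) 1
    rw [mul3, mul3] at h
    have h' : g.val 0 0 * 0 + g.val 0 1 * ⟨2, 0⟩ + g.val 0 2 * 0 =
      1 * g.val 0 1 + 0 * g.val 1 1 + 0 * g.val 2 1 := h
    apply aux1
    linear_combination h'
  have a02 : g.val 0 2 = 0 := by
    have h := congrFun (congrFun h20 0) 2
    rw [mul3, mul3] at h
    have h' : g.val 0 0 * 0 + g.val 0 1 * 0 + g.val 0 2 * ⟨2, 0⟩ =
      1 * g.val 0 2 + 0 * g.val 1 2 + 0 * g.val 2 2 := h
    apply aux1
    linear_combination h'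
  have a10 : g.val 1 0 = 0 := by
    have h := congrFun (congrFun h20 1) 0
    rw [mul3, mul3] at h
    have h' : g.val 1 0 * 1 + g.val 1 1 * 0 + g.val 1 2 * 0 =
      0 * g.val 0 0 + ⟨2, 0⟩ * g.val 1 0 + 0 * g.val 2 0 := h
    apply aux1
    linear_combination -h'
  have a20 : g.val 2 0 = 0 := by
    have h := congrFun (congrFun h20 2) 0
    rw [mul3, mul3] at h
    have h' : g.val 2 0 * 1 + g.val 2 1 * 0 + g.val 2 2 * 0 =
      0 * g.val 0 0 + 0 * g.val 1 0 + ⟨2, 0⟩ * g.val 2 0 := h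
    apply aux1
    linear_combination -h'
  have a12 : g.val 1 2 = 0 := by
    have h := congrFun (congrFun h41 1) 2
    rw [mul3, mul3] at h
    have h' : g.val 1 0 * 0 + g.val 1 1 * 0 + g.val 1 2 * ⟨2, 0⟩ =
      0 * g.val 0 2 + 1 * g.val 1 2 + 0 * g.val 2 2 := h
    apply aux1
    linear_combination h'
  have a21 : g.val 2 1 = 0 := by
    have h := congrFun (congrFun h41 2) 1
    rw [mul3, mul3] at h
    have h' : g.val 2 0 * 0 + g.val 2 1 * 1 + g.val 2 2 * 0 =
      0 * g.val 0 1 + 0 * g.val 1 1 + ⟨2, 0⟩ * g.val 2 1 := h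
    apply aux1
    linear_combination -h'
  have a11 : g.val 1 1 = g.val 0 0 := by
    have h := congrFun (congrFun h0 0) 1
    rw [mul3, mul3] at h
    have h' : g.val 0 0 * ⟨1, 1⟩ + g.val 0 1 * 1 + g.val 0 2 * ⟨2, 0⟩ =
      0 * g.val 0 1 + ⟨1, 1⟩ * g.val 1 1 + ⟨1, 1⟩ * g.val 2 1 := h
    rw [a01, a02, a21] at h'
    apply aux2
    linear_combination h'
  have a22 : g.val 2 2 = g.val 0 0 := by
    have h := congrFun (congrFun h0 0) 2
    rw [mul3, mul3] at h
    have h' : g.val 0 0 * ⟨1, 1⟩ + g.val 0 1 * ⟨2, 0⟩ + g.val 0 2 * 1 =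
      0 * g.val 0 2 + ⟨1, 1⟩ * g.val 1 2 + ⟨1, 1⟩ * g.val 2 2 := h
    rw [a01, a02, a12] at h'
    apply aux2
    linear_combination h'
  have hd : g.val.det = 1 := g.2
  rw [Matrix.det_fin_three, a01, a02, a10, a12, a20, a21, a11, a22] at hd
  have a00 : g.val 0 0 = 1 := by
    apply aux3
    linear_combination hd
  apply Subtype.ext
  apply Matrix.ext
  intro i j
  fin_cases i <;> fin_cases j
  · exact a00
  · exact a01
  · exact a02
  · exact a10
  · exact a11.trans a00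
  · exact a12
  · exact a20
  · exact a21
  · exact a22.trans a00

/-! ### The diagonal subgroup -/

/-- Pairs inducing the same permutation of the 63 objects. -/
def P (x : GG × SL3) : Prop :=
  ∃ π : Equiv.Perm (Fin 63), (∀ i, x.1.val.mulVec (e i) = e (π i)) ∧ (∀ i, x.2.val * T i = T (π i) * x.2.val)

theorem P_one : P 1 := ⟨1, fun i => Matrix.one_mulVec _, fun i => by
  change (1 : Mat3) * T i = T i * (1 : Mat3)
  rw [one_mul, mul_one]⟩

theorem P_mul {x y : GG × SL3} (hx : P x) (hy : P y) : P (x * y) := by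
  obtain ⟨π, h1, h2⟩ := hx
  obtain ⟨ρ, h3, h4⟩ := hy
  refine ⟨π * ρ, fun i => ?_, fun i => ?_⟩
  · rw [Prod.fst_mul, Units.val_mul, ← Matrix.mulVec_mulVec, h3, h1]; rfl
  · rw [Prod.snd_mul, Matrix.SpecialLinearGroup.coe_mul, Matrix.mul_assoc, h4, ← Matrix.mul_assoc, h2,
      Matrix.mul_assoc]
    rfl

theorem P_inv {x : GG × SL3} (hx : P x) : P x⁻¹ := by
  obtain ⟨π, h1, h2⟩ := hx
  refine ⟨π⁻¹, fun i => ?_, fun i => ?_⟩
  · have h := h1 (π⁻¹ i)
    rw [show π (π⁻¹ i) = i from π.apply_symm_apply i] at h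
    rw [← h, Prod.fst_inv, Matrix.mulVec_mulVec, Units.inv_mul, Matrix.one_mulVec]
  · have h := h2 (π⁻¹ i)
    rw [show π (π⁻¹ i) = i from π.apply_symm_apply i] at h
    have hi : x.2⁻¹.val * x.2.val = 1 := by
      rw [← Matrix.SpecialLinearGroup.coe_mul, inv_mul_cancel, Matrix.SpecialLinearGroup.coe_one]
    have hi' : x.2.val * x.2⁻¹.val = 1 := by
      rw [← Matrix.SpecialLinearGroup.coe_mul, mul_inv_cancel, Matrix.SpecialLinearGroup.coe_one]
    rw [Prod.snd_inv]
    calc x.2⁻¹.val * T i = x.2⁻¹.val * (T i * x.2.val) * x.2⁻¹.val := by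
          rw [Matrix.mul_assoc x.2⁻¹.val, Matrix.mul_assoc (T i), hi', Matrix.mul_one]
      _ = x.2⁻¹.val * (x.2.val * T (π⁻¹ i)) * x.2⁻¹.val := by rw [h]
      _ = T (π⁻¹ i) * x.2⁻¹.val := by rw [← Matrix.mul_assoc x.2⁻¹.val, hi, Matrix.one_mul]

/-- The subgroup generated by the two pairs of corresponding generators. -/
def D : Subgroup (GG × SL3) := Subgroup.closure {(H1, k1), (H2, k2)}

theorem P_of_mem {x : GG × SL3} (hx : x ∈ D) : P x := by
  induction hx using Subgroup.closure_induction with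
  | mem x hx =>
    rcases hx with rfl | rfl
    · exact ⟨π1, H1_e, k1_T⟩
    · exact ⟨π2, H2_e, k2_T⟩
  | one => exact P_one
  | mul x y _ _ hx hy => exact P_mul hx hy
  | inv x _ hx => exact P_inv hx

theorem fst_injOn {x : GG × SL3} (hx : x ∈ D) (h : x.1 = 1) : x = 1 := by
  obtain ⟨π, h1, h2⟩ := P_of_mem hx
  have hπ : ∀ i, π i = i := fun i => by
    apply e_injective
    rw [← h1 i, h, Units.val_one, Matrix.one_mulVec]
  have h3 : ∀ i, x.2.val * T i = T i * x.2.val := fun i => by rw [h2 i, hπ i]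
  exact Prod.ext h (eq_one_of_commute (h3 20) (h3 41) (h3 0))

theorem snd_injOn {x : GG × SL3} (hx : x ∈ D) (h : x.2 = 1) : x = 1 := by
  obtain ⟨π, h1, h2⟩ := P_of_mem hx
  have hπ : ∀ i, π i = i := fun i => by
    apply T_injective
    have := h2 i
    rw [h, Matrix.SpecialLinearGroup.coe_one, Matrix.one_mul, Matrix.mul_one] at this
    exact this.symm
  have h3 : ∀ i, x.1.val.mulVec (e i) = e i := fun i => by rw [h1 i, hπ i]
  exact Prod.ext (eq_one_of_fix_e h3) h

theorem map_fst : D.map (MonoidHom.fst GG SL3) = HH := by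
  rw [D, MonoidHom.map_closure, Set.image_pair]; rfl

theorem map_snd : D.map (MonoidHom.snd GG SL3) = S := by
  rw [D, MonoidHom.map_closure, Set.image_pair]; rfl

/-- General principle: a subgroup of a product meeting both factors trivially is the graph of an isomorphism
between its projections. -/
theorem graph_equiv {A B : Type*} [Group A] [Group B] (E : Subgroup (A × B))
    (h1 : ∀ x ∈ E, x.1 = 1 → x = 1) (h2 : ∀ x ∈ E, x.2 = 1 → x = 1) :
    Nonempty (E.map (MonoidHom.fst A B) ≃* E.map (MonoidHom.snd A B)) := by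
  have i1 : Function.Injective ((MonoidHom.fst A B).subgroupMap E) := by
    rw [injective_iff_map_eq_one]
    intro x hx
    exact Subtype.ext (h1 x.1 x.2 (congrArg Subtype.val hx))
  have i2 : Function.Injective ((MonoidHom.snd A B).subgroupMap E) := by
    rw [injective_iff_map_eq_one]
    intro x hx
    exact Subtype.ext (h2 x.1 x.2 (congrArg Subtype.val hx))
  exact ⟨(MulEquiv.ofBijective _ ⟨i1, (MonoidHom.fst A B).subgroupMap_surjective E⟩).symm.trans
    (MulEquiv.ofBijective _ ⟨i2, (MonoidHom.snd A B).subgroupMap_surjective E⟩)⟩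

theorem HH_equiv_SU : Nonempty (HH ≃* SU 3 F9 3) := by
  obtain ⟨E⟩ := graph_equiv D (fun _ hx h => fst_injOn hx h) (fun _ hx h => snd_injOn hx h)
  exact ⟨(MulEquiv.subgroupCongr map_fst.symm).trans
    (E.trans (MulEquiv.subgroupCongr (map_snd.trans S_eq)))⟩

/-! ### The centre of `SU₃(3)` is trivial. -/

theorem T20_det : T20m.det = 1 := by rw [Matrix.det_fin_three]; decide +kernel
theorem T41_det : T41m.det = 1 := by rw [Matrix.det_fin_three]; decide +kernel
theorem T0_det : T0m.det = 1 := by rw [Matrix.det_fin_three]; decide +kernel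

theorem T20_ortho : Ortho T20m := by unfold Ortho; decide +kernel
theorem T41_ortho : Ortho T41m := by unfold Ortho; decide +kernel
theorem T0_ortho : Ortho T0m := by unfold Ortho; decide +kernel

theorem center_SU : Subgroup.center (SU 3 F9 3) = ⊥ := by
  rw [eq_bot_iff]
  intro z hz
  rw [Subgroup.mem_bot]
  rw [Subgroup.mem_center_iff] at hz
  have key : ∀ (M : Mat3) (hd : M.det = 1) (_ : Ortho M), z.val.val * M = M * z.val.val := by
    intro M hd ho
    have h := hz ⟨⟨M, hd⟩, mem_SU_of_ortho (g := ⟨M, hd⟩) ho⟩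
    exact (congrArg (fun w : SU 3 F9 3 => w.val.val) h).symm
  apply Subtype.ext
  refine eq_one_of_commute (g := z.val) ?_ ?_ ?_
  · rw [T20_eq]; exact key _ T20_det T20_ortho
  · rw [T41_eq]; exact key _ T41_det T41_ortho
  · rw [T0_eq]; exact key _ T0_det T0_ortho

end Cfsg.Agent.ChevalleyStructure.G2Two.Match
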